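import Cfsg.Agent.H85.Pw.EBlk
import Cfsg.Agent.H194.Ore.RowEF

/-!
# `E₆(q)`, `F₄(q)`, `q ≥ 4`: products of two elements of order prime to the characteristic (S2465)

* `exists_spec` : the eigenvalues of a matrix with irreducible characteristic polynomial are, in a finite extension,
  `z ^ (q ^ a)`, `a < n`, all different, with product `1`;
* `irr_pow` : `X ^ (1 + q + … + q^(n-1)) = 1` for `X` in `SL_n(K)` with irreducible characteristic polynomial;
* `pairs_tab` : every element of `D.group K` is `a b` with `a ^ (q³ - 1) = b ^ (q³ - 1) = 1`;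
* `own_E6`, `own_F4`.
-/

set_option autoImplicit false
set_option linter.unusedSectionVars false

namespace Cfsg.Agent.H194.Pw

universe u

section Spectrum

open Polynomial Matrix

/-- the spectrum -/
structure Spec {K : Type u} {K' : Type u} [Field K] [Field K'] (i : K →+* K') (n : ℕ) (f : K[X]) (z : K') : Prop where
  inj : Function.Injective fun a : Fin n => z ^ (Nat.card K ^ (a : ℕ))
  split : f.map i = ∏ a : Fin n, (X - C (z ^ (Nat.card K ^ (a : ℕ))))
  fix : z ^ (Nat.card K ^ n) = z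
  norm : z ^ (∑ a ∈ Finset.range n, Nat.card K ^ a) = 1

theorem exists_spec {K : Type u} [Field K] [Finite K] {n : ℕ} {x : Matrix.SpecialLinearGroup (Fin n) K}
    (h : Irreducible (x : Matrix (Fin n) (Fin n) K).charpoly) :
    ∃ (K' : Type u) (_ : Field K') (_ : Finite K') (i : K →+* K') (z : K'),
      Spec i n (x : Matrix (Fin n) (Fin n) K).charpoly z := by
  classical
  have := Fintype.ofFinite K
  obtain ⟨f, hf⟩ : ∃ f, f = (x : Matrix (Fin n) (Fin n) K).charpoly := ⟨_, rfl⟩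
  rw [← hf] at h ⊢
  have hm : f.Monic := hf ▸ Matrix.charpoly_monic _
  have hd : f.natDegree = n := by rw [hf, Matrix.charpoly_natDegree_eq_dim, Fintype.card_fin]
  have : Fact (Irreducible f) := ⟨h⟩
  have hfin : Module.Finite K (AdjoinRoot f) := (AdjoinRoot.powerBasis' hm).finite
  have hfi : Finite (AdjoinRoot f) := Module.finite_of_finite K
  have hfr : Module.finrank K (AdjoinRoot f) = n := by
    rw [(AdjoinRoot.powerBasis' hm).finrank, AdjoinRoot.powerBasis'_dim, hd]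
  have hmin : minpoly K (AdjoinRoot.root f) = f := by
    rw [AdjoinRoot.minpoly_root h.ne_zero, hm.leadingCoeff, inv_one, C_1, mul_one]
  have hdm : (minpoly K (AdjoinRoot.root f)).natDegree = n := by rw [hmin, hd]
  obtain ⟨z, hz⟩ : ∃ z, z = AdjoinRoot.root f := ⟨_, rfl⟩
  rw [← hz] at hmin hdm
  have hcard : Fintype.card K = Nat.card K := (Nat.card_eq_fintype_card).symm
  have hinj : Function.Injective fun a : Fin n => z ^ (Nat.card K ^ (a : ℕ)) := by
    have := Cfsg.Agent.H934.MF.pow_inj hdm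
    rwa [hcard] at this
  have hroot : ∀ a : ℕ, (f.map (algebraMap K (AdjoinRoot f))).IsRoot (z ^ (Nat.card K ^ a)) := by
    intro a
    rw [IsRoot.def, eval_map_algebraMap, ← hcard]
    refine Cfsg.Agent.H934.MF.root_pow ?_ a
    have h2 := minpoly.aeval K z
    rwa [hmin] at h2
  have hsplit : f.map (algebraMap K (AdjoinRoot f)) = ∏ a : Fin n, (X - C (z ^ (Nat.card K ^ (a : ℕ)))) := by
    have h1 : (∏ a : Fin n, (X - C (z ^ (Nat.card K ^ (a : ℕ))))) ∣ f.map (algebraMap K (AdjoinRoot f)) := by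
      refine Finset.prod_dvd_of_coprime ?_ fun a _ => dvd_iff_isRoot.2 (hroot a)
      intro a _ b _ hab
      exact isCoprime_X_sub_C_of_isUnit_sub (sub_ne_zero.2 (fun h => hab (hinj h))).isUnit
    have h2 : (∏ a : Fin n, (X - C (z ^ (Nat.card K ^ (a : ℕ))))).Monic :=
      monic_prod_of_monic _ _ fun a _ => monic_X_sub_C _
    have h3 : (∏ a : Fin n, (X - C (z ^ (Nat.card K ^ (a : ℕ))))).natDegree = n := by
      rw [natDegree_prod_of_monic _ _ fun a _ => monic_X_sub_C _, Finset.sum_congr rfl fun a _ => natDegree_X_sub_C _]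
      simp
    refine (eq_of_monic_of_dvd_of_natDegree_le h2 (hm.map _) h1 ?_)
    rw [h3, natDegree_map, hd]
  refine ⟨AdjoinRoot f, inferInstance, hfi, algebraMap K (AdjoinRoot f), z, hinj, hsplit, ?_, ?_⟩
  · have h1 : Nat.card (AdjoinRoot f) = Nat.card K ^ n := by
      rw [Module.natCard_eq_pow_finrank (K := K), hfr]
    have := Fintype.ofFinite (AdjoinRoot f)
    have h2 := FiniteField.pow_card z
    rwa [← Nat.card_eq_fintype_card, h1] at h2
  · have h1 : ((x : Matrix (Fin n) (Fin n) K).map (algebraMap K (AdjoinRoot f))).det = 1 := by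
      have h2 : ((x : Matrix (Fin n) (Fin n) K).map (algebraMap K (AdjoinRoot f))).det =
          algebraMap K (AdjoinRoot f) (x : Matrix (Fin n) (Fin n) K).det :=
        (RingHom.map_det _ _).symm
      rw [h2, Matrix.SpecialLinearGroup.det_coe, map_one]
    rw [Matrix.det_eq_sign_charpoly_coeff, Matrix.charpoly_map, ← hf, hsplit, coeff_zero_eq_eval_zero, eval_prod] at h1
    simp only [eval_sub, eval_X, eval_C, zero_sub] at h1
    have h2 : ∀ a : Fin n, -(z ^ (Nat.card K ^ (a : ℕ))) = (-1) * z ^ (Nat.card K ^ (a : ℕ)) := fun a => neg_eq_neg_one_mul _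
    rw [Finset.prod_congr rfl fun a _ => h2 a, Finset.prod_mul_distrib, Finset.prod_const, Finset.card_univ,
      Fintype.card_fin, ← mul_assoc, ← mul_pow, neg_one_mul, neg_neg, one_pow, one_mul] at h1
    rw [Finset.prod_pow_eq_pow_sum] at h1
    rwa [Fin.sum_univ_eq_sum_range (fun a => Nat.card K ^ a) n] at h1

section

variable {K : Type u} {K' : Type u} [Field K] [Field K'] {i : K →+* K'} {n : ℕ} {f : K[X]} {z : K'}

theorem Spec.ne_zero (h : Spec i n f z) (hn : 0 < n) (hK : 0 < Nat.card K) : z ≠ 0 := by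
  intro h0
  have h1 := h.norm
  rw [h0, zero_pow] at h1
  · exact zero_ne_one h1
  · have : 0 < ∑ a ∈ Finset.range n, Nat.card K ^ a :=
      Finset.sum_pos (fun a _ => pow_pos hK a) ⟨0, by simpa using hn⟩
    omega

end

/-- **The order of a matrix with irreducible characteristic polynomial.** -/
theorem irr_pow {K : Type u} [Field K] [Finite K] {n : ℕ} {x : Matrix.SpecialLinearGroup (Fin n) K}
    (h : Irreducible (x : Matrix (Fin n) (Fin n) K).charpoly) : x ^ (∑ a ∈ Finset.range n, Nat.card K ^ a) = 1 := by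
  obtain ⟨K', _, _, i, z, S⟩ := exists_spec h
  refine Cfsg.Agent.H85.Pw.pow_eq_one S.inj S.split fun a => ?_
  rw [← pow_mul, mul_comm, pow_mul, S.norm, one_pow]

end Spectrum

open CoxeterSystem Cfsg.Agent.ChevalleyStructure.CoxeterGeom Cfsg.Agent.Tits.Roots Cfsg.Agent.Tits.Core
  Cfsg.Agent.Nodes.Reps Cfsg.Agent.Nodes.BNOf Cfsg.Agent.Nodes.RGDLib Cfsg.Agent.Nodes.Bruhat
  Cfsg.Agent.Nodes.OppDec Cfsg.Agent.Nodes.LeviDec Cfsg.Agent.Nodes.KindChev Cfsg.Agent.Nodes.ChevCls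
  Cfsg.Agent.OddHalf.NI.ModelChev Cfsg.Agent.Nodes.StabComb
  Cfsg.Agent.H162.GaussDec Cfsg.Agent.H162.GaussLevi Cfsg.Agent.H162.GaussSL Cfsg.Agent.H162.GaussReg
  Cfsg.Agent.H162.GaussPQ
  Cfsg.Agent.H928.Ore.Frame Cfsg.Agent.H928.Ore.Fix
open Cfsg.Lie Cfsg.Agent.ChevalleyStructure Cfsg.Agent.ChevalleyStructure.Elts
  Cfsg.Agent.ChevalleyStructure.RootVec Cfsg.Agent.ChevalleyStructure.NPerm
  Cfsg.Agent.ChevalleyStructure.CoxeterGeomTypes Cfsg.Agent.Nodes.RGDChev Cfsg.Agent.KFacts.RgdChevCoord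
open Cfsg.Agent.TitsThree.KExcRT Cfsg.Agent.H335.Sr Cfsg.Agent.H129.TorusChar Cfsg.Agent.H777.Ore
open Cfsg.Agent.H162.GaussExc (sg sg_mem ch_sg act_sg wd fr fr_lt wd_act fr_vec wd_norm eq_of_ch prod_zpow coord)
open Cfsg.Agent.H85.Ore Cfsg.Agent.H78.Pw Cfsg.Agent.H85.Pw
open Cfsg.Agent.H194.Ore


section

variable {D : ChevalleyDatum} {l : ℕ} {M : CoxeterMatrix (Fin l)} (hp : IsType D l M) {K : Type u} [Field K]

/-- the order of the element of the torus -/
theorem sg_pow [Finite K] (m : Fin l → ℤ) (t : Kˣ) : sg hp m t ^ (Nat.card K - 1) = 1 := by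
  have h1 : Nat.card Kˣ = Nat.card K - 1 := Nat.card_units K
  unfold sg
  rw [← map_pow]
  convert map_one (th hp)
  funext k
  rw [Pi.pow_apply, ← h1, pow_card_eq_one']
  rfl

end

theorem geom_dvd (q n : ℕ) (hq : 1 ≤ q) : (q - 1) * ∑ a ∈ Finset.range n, q ^ a = q ^ n - 1 := by
  induction n with
  | zero => simp
  | succ m ih =>
    rw [Finset.sum_range_succ, mul_add, ih, pow_succ]
    have h1 : 1 ≤ q ^ m := Nat.one_le_pow _ _ hq
    obtain ⟨k, rfl⟩ : ∃ k, q = k + 1 := ⟨q - 1, by omega⟩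
    rw [Nat.add_sub_cancel]
    have h2 : 1 ≤ (k + 1) ^ m := h1
    have h3 : (k + 1) ^ m * (k + 1) = k * (k + 1) ^ m + (k + 1) ^ m := by ring
    omega

/-- a unit with `t ≠ 1`, `t² ≠ 1` -/
theorem exists_t {K : Type u} [Field K] [Finite K] (hK : 4 ≤ Nat.card K) : ∃ t : Kˣ, t ≠ 1 ∧ t * t ≠ 1 := by
  by_contra hcon
  push Not at hcon
  have h1 : ∀ x : K, x = 0 ∨ x = 1 ∨ x = -1 := by
    intro x
    by_cases hx : x = 0
    · exact .inl hx
    · right
      by_cases h1 : x = 1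
      · exact .inl h1
      · right
        have h2 := hcon (Units.mk0 x hx) (fun h => h1 (by
          have := congrArg Units.val h
          simpa using this))
        have h3 : x * x = 1 := by
          have := congrArg Units.val h2
          simpa using this
        rcases mul_self_eq_one_iff.1 h3 with h4 | h4
        · exact absurd h4 h1
        · exact h4
  classical
  have := Fintype.ofFinite K
  have h2 : (Finset.univ : Finset K) ⊆ {0, 1, -1} := by
    intro x _
    simp only [Finset.mem_insert, Finset.mem_singleton]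
    exact h1 x
  have h3 := Finset.card_le_card h2
  rw [Finset.card_univ, ← Nat.card_eq_fintype_card] at h3
  have h4 : ({0, 1, -1} : Finset K).card ≤ 3 := Finset.card_le_three
  omega

/-- **Products of two elements of order dividing `q³ - 1`.** -/
theorem pairs_tab {D : ChevalleyDatum} {l : ℕ} {M : CoxeterMatrix (Fin l)} (hp : IsType D l M) {K : Type u} [Field K]
    [Finite K] (hK : 4 ≤ Nat.card K) {J : List (Fin l)} {m : Fin l → ℤ} {γ : Fin l → Fin l} {ω ω₁ : List (Fin l)}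
    {r : Fin 3 → Fin 3 → ℕ} {ε : ℤ} (hε : ε * ε = 1) {i j : Fin l} (T : Tab D l J m γ ω ω₁ r ε i j)
    (hS : IsSimpleGroup ↥(D.group K) ∧ ¬ IsMulCommutative ↥(D.group K))
    (hM : ∀ J : Finset (Fin l), J = ∅ ∨ J = Finset.univ ∨ ∃ a ∈ J, ∃ b, b ∉ J ∧ M a b ≠ 2) (hm3 : M3 K)
    (g : ↥(D.group K)) :
    ∃ a b : ↥(D.group K), g = a * b ∧ a ^ (Nat.card K ^ 3 - 1) = 1 ∧ b ^ (Nat.card K ^ 3 - 1) = 1 := by
  obtain ⟨p, hpc⟩ := CharP.exists K
  have : Fact p.Prime := ⟨(CharP.char_is_prime_or_zero K p).resolve_right (CharP.char_ne_zero_of_finite K p)⟩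
  have := finite_W hp M.toCoxeterSystem
  have hl : 0 < l := i.pos
  by_cases hg : g = 1
  · exact ⟨1, 1, by rw [hg]; simp, one_pow _, one_pow _⟩
  obtain ⟨φ, hφ⟩ := Cfsg.Agent.H162.GaussExcMain.exists_hom_D hp (K := K) hε T.ra T.rb T.rc T.rn
  obtain ⟨t, h1, h2⟩ := exists_t hK
  have hti : (sg hp m t)⁻¹ = sg hp m t⁻¹ := by
    refine inv_eq_of_mul_eq_one_right ?_
    unfold sg
    rw [← map_mul]
    convert map_one (th hp)
    funext k
    rw [Pi.mul_apply, inv_zpow, mul_inv_cancel]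
    rfl
  have hord : ∀ (s : Kˣ) (A : Matrix.SpecialLinearGroup (Fin 3) K),
      Irreducible (A : Matrix (Fin 3) (Fin 3) K).charpoly → (sg hp m s * φ A) ^ (Nat.card K ^ 3 - 1) = 1 := by
    intro s A hA
    have h3 : Commute (sg hp m s) (φ A) := T.comm hp s hφ A
    have h5 := irr_pow hA
    rw [h3.mul_pow, ← map_pow, ← geom_dvd _ 3 Nat.card_pos, pow_mul, sg_pow, one_pow, one_mul, mul_comm, pow_mul, h5,
      one_pow, map_one]
  obtain ⟨c₁, c₂, x, y, ⟨h3, h4⟩, h5⟩ := pair (rgd (K := K) hp M.toCoxeterSystem p) (G1_eq_top hp _)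
    (coord hp) (Cfsg.Agent.Nodes.ChevChart.irr_of hM) (J := {k | k ∈ J})
    (Pr := fun c₁ c₂ : ↥(D.group K) => c₁ ^ (Nat.card K ^ 3 - 1) = 1 ∧ c₂ ^ (Nat.card K ^ 3 - 1) = 1)
    (fun v hv u hu => by
      obtain ⟨L, hL, rfl⟩ := T.lo hp hφ hε hv
      obtain ⟨U, hU, rfl⟩ := T.up hp hφ hε hu
      obtain ⟨X, Y, hXY, hX, hY, -⟩ := hm3 L hL U hU
      have hsT : sg hp m t ∈ LJ M.toCoxeterSystem hp.isCartan (TT D K) (XX D l K) {k | k ∈ J} :=
        T_le_LJ (sg_mem hp m t)
      refine ⟨sg hp m t * φ X, (sg hp m t)⁻¹ * φ Y, ?_, ⟨mul_mem hsT (T.range hp hφ X),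
        mul_mem (inv_mem hsT) (T.range hp hφ Y), (T.nf hp t hφ hε h1 h2 hX).2, ?_⟩, hord t X hX, ?_⟩
      · rw [T.comm hp t hφ X]
        calc φ L * φ U = φ (X * Y) := by rw [← map_mul, hXY]
          _ = φ X * φ Y := map_mul _ _ _
          _ = _ := by group
      · rw [hti]
        exact (T.nf hp t⁻¹ hφ hε (by rwa [ne_eq, inv_eq_one]) (by
          rw [← mul_inv, ne_eq, inv_eq_one]
          exact h2) hY).1
      · rw [hti]
        exact hord t⁻¹ Y hY) (Cfsg.Agent.H224.Ore.Row.not_mem_core hl hS.1 p hp hg)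
  exact ⟨_, _, h5, by rw [conj_pow, h3, mul_one, mul_inv_cancel], by rw [conj_pow, h4, mul_one, mul_inv_cancel]⟩

theorem pairs_E6 {K : Type u} [Field K] [Finite K] (hK : 4 ≤ Nat.card K) (g : ↥(chevE6.group K)) :
    ∃ a b : ↥(chevE6.group K), g = a * b ∧ a ^ (Nat.card K ^ 3 - 1) = 1 ∧ b ^ (Nat.card K ^ 3 - 1) = 1 :=
  pairs_tab Cfsg.Agent.Nodes.KindE.isType6 hK (by norm_num) tab6 (Cfsg.Agent.S1054.result chevE6 (by simp))
    Cfsg.Agent.Nodes.ChevChart.irr6 (m3_of_four hK) g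

theorem pairs_F4 {K : Type u} [Field K] [Finite K] (hK : 4 ≤ Nat.card K) (g : ↥(chevF4.group K)) :
    ∃ a b : ↥(chevF4.group K), g = a * b ∧ a ^ (Nat.card K ^ 3 - 1) = 1 ∧ b ^ (Nat.card K ^ 3 - 1) = 1 :=
  pairs_tab Cfsg.Agent.Nodes.KindF.isType hK (by norm_num) tabL (Cfsg.Agent.S1054.result chevF4 (by simp))
    Cfsg.Agent.Nodes.ChevChart.irrF (m3_of_four hK) g

/-- **own characteristic** -/
theorem own_E6 {K : Type u} [Field K] [Finite K] (hK : 4 ≤ Nat.card K) (p : ℕ) [Fact p.Prime] [CharP K p] :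
    All p ↥(chevE6.group K) :=
  all_of_pairs (coprime_card K (by norm_num)) (pairs_E6 hK)

/-- **own characteristic** -/
theorem own_F4 {K : Type u} [Field K] [Finite K] (hK : 4 ≤ Nat.card K) (p : ℕ) [Fact p.Prime] [CharP K p] :
    All p ↥(chevF4.group K) :=
  all_of_pairs (coprime_card K (by norm_num)) (pairs_F4 hK)

end Cfsg.Agent.H194.Pw
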