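import Cfsg.Agent.H194.Pw.Own
import Cfsg.Agent.H150.E6T.Hom
import Cfsg.Agent.H267.Ore.PTwo

/-!
# The Levi subgroup of type `A₄ A₁` of `E₆(q)` (S2465)

* `exists_hom_S` : the homomorphism of a block with signs;
* `phi5` : `SL₅(K) →* E₆(K)` for the nodes `1, 3, 4, 2`; `Phi` : `SL₅(K) × SL₂(K) →* E₆(K)`, with the node `6`;
* `exists_up`, `exists_lo` : `U_J`, `U_J⁻` are contained in the images of the triangular groups;
* `nf_six` : `φ(X, x)`, `X` with irreducible characteristic polynomial, `x ^ (q² - 1) = 1`, has no fixed points on `V_J`,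
  `V_J⁻` (every finite field);
* `P5 K` : every `L U` in `SL₅(K)` is a product of two elements with irreducible characteristic polynomials;
* `pairs_of_P5` : every element of `E₆(q)` is `a b` with `a ^ N = b ^ N = 1`, `N = (1 + q + q² + q³ + q⁴) k`,
  if every `L U` in `SL₂(K)` is `x y`, `x ^ k = y ^ k = 1`, `k ∣ q² - 1`;
* `six_E6_of` : the row, `q ≥ 4`, a power of `2` or `3`.
-/

set_option autoImplicit false
set_option linter.unusedSectionVars false

namespace Cfsg.Agent.H194.Pw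

open CoxeterSystem Cfsg.Agent.ChevalleyStructure.CoxeterGeom Cfsg.Agent.Tits.Roots Cfsg.Agent.Tits.Core
  Cfsg.Agent.Nodes.Reps Cfsg.Agent.Nodes.BNOf Cfsg.Agent.Nodes.RGDLib Cfsg.Agent.Nodes.Bruhat
  Cfsg.Agent.Nodes.OppDec Cfsg.Agent.Nodes.LeviDec Cfsg.Agent.Nodes.KindChev Cfsg.Agent.Nodes.ChevCls
  Cfsg.Agent.OddHalf.NI.ModelChev Cfsg.Agent.Nodes.StabComb
  Cfsg.Agent.H162.GaussDec Cfsg.Agent.H162.GaussLevi Cfsg.Agent.H162.GaussSL Cfsg.Agent.H162.GaussReg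
  Cfsg.Agent.H162.GaussPQ
  Cfsg.Agent.H928.Ore.Frame
open Cfsg.Lie Cfsg.Agent.ChevalleyStructure Cfsg.Agent.ChevalleyStructure.Elts
  Cfsg.Agent.ChevalleyStructure.RootVec Cfsg.Agent.ChevalleyStructure.NPerm
  Cfsg.Agent.ChevalleyStructure.CoxeterGeomTypes Cfsg.Agent.Nodes.RGDChev Cfsg.Agent.KFacts.RgdChevCoord
open Cfsg.Agent.FixBN.FieldRGD (uu vv dd ww)
open Cfsg.Agent.TitsThree.KExcRT Cfsg.Agent.AGraded
open Cfsg.Agent.H482.Ore.Fix (Bk SimpB wt NF.of_pow nf_block')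
open Cfsg.Agent.H150.E6T (hp6 Cm cs6 commute_hom commute_two tv01 tv10 le_of_gen le_of_gen_two X_le
  vec36 vec35 f f5_uu f5_vv lt56)
open Cfsg.Agent.H78.Pw Cfsg.Agent.H85.Pw
open Cfsg.Agent.H162.GaussExc (coord)
open scoped MatrixGroups

universe u

/-! ### The homomorphism of a block with signs -/

section

variable {D : ChevalleyDatum} {l : ℕ} {M : CoxeterMatrix (Fin l)} (hp : IsType D l M) {K : Type u} [Field K]

include hp in
/-- a block of type `A_{n+2}` with signs -/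
theorem exists_hom_S {n : ℕ} {r : Fin (n + 3) → Fin (n + 3) → ℕ} {s : Fin (n + 3) → Fin (n + 3) → ℤ}
    (ha : RTa D r) (hb : RTb D r s) (hc : RTc D r) (hd : RTd s) (hs : ∀ i j, s j i = s i j)
    (hneg : ∀ i j, i ≠ j → r j i = D.neg (r i j)) :
    ∃ φ : Matrix.SpecialLinearGroup (Fin (n + 3)) K →* ↥(D.group K), ∀ a b (hab : a ≠ b) c,
      φ (Matrix.SpecialLinearGroup.transvection hab c) = xc hp (vec D l (r a b)) ((s a b : K) * c) := by
  let X : Fin (n + 3) → Fin (n + 3) → K → ↥(D.group K) := fun a b c =>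
    ⟨xG hp.inList (r a b) ((s a b : K) * c), xG_mem_group hp.inList _ _⟩
  have hX : ∀ a b, a ≠ b → ∀ c, X a b c = xc hp (vec D l (r a b)) ((s a b : K) * c) := by
    intro a b hab c
    apply Subtype.ext
    rw [coe_xc hp (ha a b hab)]
  have hS := stein (F := K) hp.inList (r := r) (s := s) ha hb hc hd
  have hSt : SteinRel X := by
    refine ⟨?_, ?_, ?_⟩
    · intro i j hij a b
      apply Subtype.ext
      exact hS.add i j hij a b
    · intro i j k l hij hkl hjk hil a b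
      apply Subtype.ext
      exact hS.comm i j k l hij hkl hjk hil a b
    · intro i j k hij hjk hik a b
      apply Subtype.ext
      exact hS.br i j k hij hjk hik a b
  have hH : CTFrame.Torus.HRel X := by
    intro i j hij
    obtain ⟨ε, hεd⟩ : ∃ ε, ε = s i j := ⟨_, rfl⟩
    have hεK : (ε : K) * (ε : K) = 1 := by rw [hεd, ← Int.cast_mul, hd, Int.cast_one]
    have hε0 : (ε : K) ≠ 0 := left_ne_zero_of_mul_eq_one hεK
    obtain ⟨f, hf1, hf2, -, -, -⟩ := exists_sl hp (K := K) (ha i j hij)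
    have e1 : ∀ c, X i j c = f (uu ((ε : K) * c)) := by
      intro c
      rw [hf1, hX i j hij, hεd]
    have e2 : ∀ c, X j i c = f (vv ((ε : K) * c)) := by
      intro c
      rw [hf2, hX j i hij.symm, hneg i j hij, vec_neg hp (ha i j hij), hs, hεd]
    have e3 : ∀ u : K, (hu : u ≠ 0) → CTFrame.Weyl.t X i j u = f (dd u hu) := by
      intro u hu
      unfold CTFrame.Weyl.t CTFrame.Weyl.w
      rw [e1, e1, e2, e2, ← map_mul, ← map_mul, ← map_mul, ← map_mul, ← map_mul]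
      congr 1
      apply Subtype.ext
      change (!![1, (ε : K) * u; 0, 1] * !![1, 0; (ε : K) * -u⁻¹, 1] * !![1, (ε : K) * u; 0, 1]) *
        (!![1, (ε : K) * -1; 0, 1] * !![1, 0; (ε : K) * -(-1)⁻¹, 1] * !![1, (ε : K) * -1; 0, 1]) = !![u, 0; 0, u⁻¹]
      have g1 : (!![1, (ε : K) * u; 0, 1] * !![1, 0; (ε : K) * -u⁻¹, 1] * !![1, (ε : K) * u; 0, 1] :
          Matrix (Fin 2) (Fin 2) K) = !![0, (ε : K) * u; (ε : K) * -u⁻¹, 0] := by
        have g2 : (ε : K) * u * ((ε : K) * u⁻¹) = 1 := by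
          rw [mul_mul_mul_comm, hεK, mul_inv_cancel₀ hu, one_mul]
        rw [Matrix.mul_fin_two, Matrix.mul_fin_two]
        have g3 : (ε : K) * u⁻¹ * ((ε : K) * u) = 1 := by
          rw [mul_mul_mul_comm, hεK, inv_mul_cancel₀ hu, one_mul]
        ext a b
        fin_cases a <;> fin_cases b
        · simp [g2]
        · simp [g2]
        · simp
        · simp [g3]
      have g1' : (!![1, (ε : K) * -1; 0, 1] * !![1, 0; (ε : K) * -(-1)⁻¹, 1] * !![1, (ε : K) * -1; 0, 1] :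
          Matrix (Fin 2) (Fin 2) K) = !![0, -(ε : K); (ε : K), 0] := by
        rw [Matrix.mul_fin_two, Matrix.mul_fin_two]
        ext a b
        fin_cases a <;> fin_cases b
        · simp [hεK]
        · simp [hεK]
        · simp
        · simp [hεK]
      rw [g1, g1', Matrix.mul_fin_two]
      ext a b
      fin_cases a <;> fin_cases b
      · simp
        rw [mul_right_comm, hεK, one_mul]
      · simp
      · simp
      · simp
        rw [mul_right_comm, hεK, one_mul]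
    intro a b ha0 hb0
    rw [e3 a ha0, e3 b hb0, e3 (a * b) (mul_ne_zero ha0 hb0), ← map_mul]
    congr 1
    apply Subtype.ext
    change !![a, 0; 0, a⁻¹] * !![b, 0; 0, b⁻¹] = !![a * b, 0; 0, (a * b)⁻¹]
    rw [Matrix.mul_fin_two, mul_inv]
    simp
  obtain ⟨φ, hφ, -⟩ := CTFrame.Hom.exists_hom hSt hH (by simp)
  exact ⟨φ, fun a b hab c => by rw [hφ a b hab c, hX a b hab]⟩

end

/-! ### The products of the eigenvalues -/

section Eig

variable {K : Type u} {K' : Type u} [Field K] [Finite K] [Field K'] {i : K →+* K'} {g : Polynomial K} {z : K'}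

theorem Spec.add_mul (S : Spec i 5 g z) (a : ℕ) : z ^ Nat.card K ^ (a + 5) = z ^ Nat.card K ^ a := by
  rw [add_comm, pow_add, pow_mul, S.fix]

theorem Spec.mod (S : Spec i 5 g z) (a : ℕ) : z ^ Nat.card K ^ a = z ^ Nat.card K ^ (a % 5) := by
  have h : ∀ k b : ℕ, z ^ Nat.card K ^ (b + 5 * k) = z ^ Nat.card K ^ b := by
    intro k
    induction k with
    | zero => intro b; rfl
    | succ k ih => intro b; rw [Nat.mul_succ, ← add_assoc, S.add_mul, ih]
  conv_lhs => rw [← Nat.mod_add_div a 5]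
  rw [h]

theorem Spec.eq_iff (S : Spec i 5 g z) {a b : ℕ} (h : z ^ Nat.card K ^ a = z ^ Nat.card K ^ b) : a % 5 = b % 5 := by
  rw [S.mod a, S.mod b] at h
  have h1 := @S.inj ⟨a % 5, Nat.mod_lt _ (by norm_num)⟩ ⟨b % 5, Nat.mod_lt _ (by norm_num)⟩ h
  exact congrArg Fin.val h1

/-- fixed by two powers of the Frobenius map -/
theorem pow_q {w : K'} (h5 : w ^ Nat.card K ^ 5 = w)
    (h2 : w ^ (Nat.card K ^ 2 - 1) = 1) : w ^ Nat.card K = w := by
  have hq : 1 ≤ Nat.card K ^ 2 := Nat.one_le_pow _ _ Nat.card_pos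
  have h3 : w ^ Nat.card K ^ 2 = w := by
    conv_lhs => rw [← Nat.sub_add_cancel hq, pow_succ, h2, one_mul]
  have h4 : w ^ Nat.card K ^ 4 = w := by
    rw [show 4 = 2 + 2 by norm_num, pow_add, pow_mul, h3, h3]
  rw [show 5 = 4 + 1 by norm_num, pow_add, pow_mul, h4, pow_one] at h5
  exact h5

theorem Spec.pow_five (S : Spec i 5 g z) (a : ℕ) : (z ^ Nat.card K ^ a) ^ Nat.card K ^ 5 = z ^ Nat.card K ^ a := by
  rw [← pow_mul, ← pow_add, S.add_mul]

theorem Spec.z0 (S : Spec i 5 g z) : z ≠ 0 := S.ne_zero (by norm_num) Nat.card_pos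

theorem Spec.one_ne (S : Spec i 5 g z) (a : ℕ) : (z ^ Nat.card K ^ a) ^ (Nat.card K ^ 2 - 1) ≠ 1 := by
  intro h
  have h1 := pow_q (S.pow_five a) h
  rw [← pow_mul, ← pow_succ] at h1
  have := S.eq_iff h1
  omega

theorem Spec.two_ne (S : Spec i 5 g z) {a b : ℕ} (hab : a < b) (hb : b < 5) :
    (z ^ Nat.card K ^ a * z ^ Nat.card K ^ b) ^ (Nat.card K ^ 2 - 1) ≠ 1 := by
  intro h
  obtain ⟨d, hd⟩ : ∃ d, b = a + d := ⟨b - a, by omega⟩
  obtain ⟨w, hw⟩ : ∃ w, w = z ^ Nat.card K ^ a * z ^ Nat.card K ^ b := ⟨_, rfl⟩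
  rw [← hw] at h
  have h1 := pow_q (w := w) (by rw [hw, mul_pow, S.pow_five, S.pow_five]) h
  have h2 : ∀ k : ℕ, w ^ Nat.card K ^ k = w := by
    intro k
    induction k with
    | zero => rw [pow_zero, pow_one]
    | succ k ih => rw [pow_succ, pow_mul, ih, h1]
  have h3 := h2 d
  have h5 : z ^ Nat.card K ^ b * z ^ Nat.card K ^ (b + d) = z ^ Nat.card K ^ b * z ^ Nat.card K ^ a := by
    calc z ^ Nat.card K ^ b * z ^ Nat.card K ^ (b + d)
        = (z ^ Nat.card K ^ a) ^ Nat.card K ^ d * (z ^ Nat.card K ^ b) ^ Nat.card K ^ d := by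
          rw [← pow_mul z (Nat.card K ^ a), ← pow_mul z (Nat.card K ^ b), ← pow_add (Nat.card K) a,
            ← pow_add (Nat.card K) b, ← hd]
      _ = w := by rw [← mul_pow, ← hw, h3]
      _ = _ := by rw [hw, mul_comm]
  have := S.eq_iff (mul_left_cancel₀ (pow_ne_zero _ S.z0) h5)
  omega

end Eig

/-! ### The tables -/

/-- the nodes of the Levi subgroup -/
def J5 : List (Fin 6) := [0, 1, 2, 3, 5]

/-- the roots of the block -/
def r5 : Fin 5 → Fin 5 → ℕ :=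
  ![![0, 56, 57, 58, 61], ![15, 0, 42, 43, 50], ![14, 29, 0, 39, 47], ![13, 28, 32, 0, 46], ![10, 21, 24, 25, 0]]

/-- the signs of the block -/
def s5 : Fin 5 → Fin 5 → ℤ :=
  ![![1, 1, -1, 1, -1], ![1, 1, 1, -1, 1], ![-1, 1, 1, 1, 1], ![1, -1, 1, 1, 1], ![-1, 1, 1, 1, 1]]

/-- the nodes of the block -/
def j5 : Fin 4 → Fin 6 := ![0, 2, 3, 1]

theorem rt5 : RTa chevE6 r5 ∧ RTb chevE6 r5 s5 ∧ RTc chevE6 r5 ∧ RTd s5 ∧ (∀ i j, s5 j i = s5 i j) ∧
    ∀ i j, i ≠ j → r5 j i = chevE6.neg (r5 i j) := by decide +kernel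

theorem simp5 : (∀ a : Fin 4, r5 a.castSucc a.succ = chevE6.simple (j5 a)) ∧
    ∀ a : Fin 4, r5 a.succ a.castSucc = chevE6.neg (chevE6.simple (j5 a)) := by decide +kernel

theorem r5_J : ∀ a b : Fin 5, a ≠ b → ∀ k : Fin 6, k ∉ J5 → vec chevE6 6 (r5 a b) k = 0 := by decide +kernel

theorem cm5 : ∀ a b : Fin 5, a ≠ b → Cm chevE6 (r5 a b) 36 ∧ Cm chevE6 (r5 a b) 35 := by decide +kernel

theorem J36 : ∀ k : Fin 6, k ∉ J5 → vec chevE6 6 36 k = 0 ∧ vec chevE6 6 35 k = 0 := by decide +kernel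

theorem sub5 : ∀ q < chevE6.nroots, (∀ k : Fin 6, k ∉ J5 → vec chevE6 6 q k = 0) →
    (∃ a b : Fin 5, a ≠ b ∧ r5 a b = q ∧ (a < b → ∃ k, 0 < vec chevE6 6 q k) ∧ (b < a → ∃ k, vec chevE6 6 q k < 0)) ∨
      q = 36 ∨ q = 35 := by
  intro q hq
  revert q
  refine @of_decide_eq_true _ ?_ ?_
  · refine @Nat.decidableBallLT _ _ fun q _ => ?_
    refine @instDecidableForall _ _ inferInstance ?_
    refine @instDecidableOr _ _ ?_ inferInstance
    refine @Fintype.decidableExistsFintype _ _ (fun a => ?_) _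
    refine @Fintype.decidableExistsFintype _ _ (fun b => ?_) _
    infer_instance
  · decide +kernel

/-- the indicator of `{a, b}` -/
def ind (a b k : Fin 5) : ℤ := if k = a ∨ k = b then 1 else 0

theorem out5 : ∀ q < chevE6.nroots, (∃ k : Fin 6, k ∉ J5 ∧ vec chevE6 6 q k ≠ 0) →
    ∃ a b : Fin 5, a ≤ b ∧ ((∀ k, wt chevE6 j5 q k = ind a b k - ind a b 4) ∨
      ∀ k, wt chevE6 j5 q k = -ind a b k + ind a b 4) := by
  intro q hq
  revert q
  refine @of_decide_eq_true _ ?_ ?_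
  · refine @Nat.decidableBallLT _ _ fun q _ => ?_
    refine @instDecidableForall _ _ inferInstance ?_
    refine @Fintype.decidableExistsFintype _ _ (fun a => ?_) _
    refine @Fintype.decidableExistsFintype _ _ (fun b => ?_) _
    infer_instance
  · decide +kernel

/-! ### The homomorphisms -/

section Hom

theorem exists_phi5 (K : Type u) [Field K] : ∃ φ : Matrix.SpecialLinearGroup (Fin 5) K →* ↥(chevE6.group K),
    ∀ a b (hab : a ≠ b) c, φ (Matrix.SpecialLinearGroup.transvection hab c) =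
      xc hp6 (vec chevE6 6 (r5 a b)) ((s5 a b : K) * c) :=
  exists_hom_S hp6 rt5.1 rt5.2.1 rt5.2.2.1 rt5.2.2.2.1 rt5.2.2.2.2.1 rt5.2.2.2.2.2

variable (K : Type u) [Field K]

/-- the block of the nodes `1, 3, 4, 2` -/
noncomputable def phi5 : Matrix.SpecialLinearGroup (Fin 5) K →* ↥(chevE6.group K) := (exists_phi5 K).choose

theorem phi5_tv (a b : Fin 5) (hab : a ≠ b) (c : K) :
    phi5 K (Matrix.SpecialLinearGroup.transvection hab c) = xc hp6 (vec chevE6 6 (r5 a b)) ((s5 a b : K) * c) :=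
  (exists_phi5 K).choose_spec a b hab c

theorem comm5 (A : Matrix.SpecialLinearGroup (Fin 5) K) (B : SL(2, K)) : Commute (phi5 K A) (f K 5 B) := by
  refine commute_hom _ _ (fun a b hab c => (commute_two _ _ (fun d => ?_) (fun d => ?_) B).symm) A
  · rw [f5_uu, phi5_tv]; exact ((cm5 a b hab).1.commute _ d).symm
  · rw [f5_vv, phi5_tv]; exact ((cm5 a b hab).2.commute _ d).symm

/-- the homomorphism onto the Levi subgroup -/
noncomputable def Phi5 : Matrix.SpecialLinearGroup (Fin 5) K × SL(2, K) →* ↥(chevE6.group K) :=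
  (phi5 K).noncommCoprod (f K 5) (comm5 K)

theorem Phi5_apply (A : Matrix.SpecialLinearGroup (Fin 5) K) (B : SL(2, K)) :
    Phi5 K (A, B) = phi5 K A * f K 5 B := rfl

theorem Phi5_A (A : Matrix.SpecialLinearGroup (Fin 5) K) : Phi5 K (A, 1) = phi5 K A := by
  rw [Phi5_apply, map_one, mul_one]

theorem Phi5_B (B : SL(2, K)) : Phi5 K (1, B) = f K 5 B := by
  rw [Phi5_apply, map_one, one_mul]

variable {K}

theorem XJ_le {q : ℕ} (hq : q < chevE6.nroots) (hJ : ∀ k : Fin 6, k ∉ J5 → vec chevE6 6 q k = 0) (c : K) :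
    xc hp6 (vec chevE6 6 q) c ∈ LJ cs6 hp6.isCartan (TT chevE6 K) (XX chevE6 6 K) {k | k ∈ J5} :=
  X_le_LJ (J := {k | k ∈ J5}) (x := vec chevE6 6 q) ⟨isRoot_vec hp6 _ hq, hJ⟩ ((mem_XX hp6 hq _).2 ⟨_, rfl⟩)

theorem phi5_mem (A : Matrix.SpecialLinearGroup (Fin 5) K) :
    phi5 K A ∈ LJ cs6 hp6.isCartan (TT chevE6 K) (XX chevE6 6 K) {k | k ∈ J5} :=
  le_of_gen _ _ (fun a b hab c => by rw [phi5_tv]; exact XJ_le (rt5.1 a b hab) (r5_J a b hab) _) A

theorem f5_mem (A : SL(2, K)) : f K 5 A ∈ LJ cs6 hp6.isCartan (TT chevE6 K) (XX chevE6 6 K) {k | k ∈ J5} :=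
  le_of_gen_two _ _ (fun c => by rw [f5_uu]; exact XJ_le lt56.2.2.1 (fun k hk => (J36 k hk).1) c)
    (fun c => by rw [f5_vv]; exact XJ_le lt56.2.2.2 (fun k hk => (J36 k hk).2) c) A

theorem Phi5_mem (x : Matrix.SpecialLinearGroup (Fin 5) K × SL(2, K)) :
    Phi5 K x ∈ LJ cs6 hp6.isCartan (TT chevE6 K) (XX chevE6 6 K) {k | k ∈ J5} :=
  mul_mem (phi5_mem x.1) (f5_mem x.2)

theorem s5_sq (a b : Fin 5) (c : K) : ((s5 a b : ℤ) : K) * (((s5 a b : ℤ) : K) * c) = c := by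
  rw [← mul_assoc, ← Int.cast_mul, rt5.2.2.2.1 a b, Int.cast_one, one_mul]

theorem exists_up {u : ↥(chevE6.group K)} (hu : u ∈ UJ cs6 hp6.isCartan (XX chevE6 6 K) {k | k ∈ J5}) :
    ∃ U ∈ UT 5 K, ∃ B ∈ UT 2 K, Phi5 K (U, B) = u := by
  have h1 : UJ cs6 hp6.isCartan (XX chevE6 6 K) {k | k ∈ J5} ≤ ((UT 5 K).prod (UT 2 K)).map (Phi5 K) := by
    refine RGD.Sup_le fun x hx => ?_
    obtain ⟨q, hq, rfl⟩ := (isRoot_iff hp6 _ x).1 hx.1
    intro y hy
    obtain ⟨c, rfl⟩ := (mem_XX hp6 hq y).1 hy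
    have hneg : ∀ k, ¬ vec chevE6 6 q k < 0 := fun k => not_lt.2 (hx.2.1 k)
    rcases sub5 q hq hx.2.2 with ⟨a, b, hab, rfl, h1, h2⟩ | rfl | rfl
    · have hlt : a < b := by
        rcases lt_or_gt_of_ne hab with h | h
        · exact h
        · obtain ⟨k, hk⟩ := h2 h
          exact absurd hk (hneg k)
      refine ⟨(Matrix.SpecialLinearGroup.transvection hab (((s5 a b : ℤ) : K) * c), 1),
        ⟨tv_mem_UT hab hlt _, one_mem _⟩, ?_⟩
      rw [Phi5_A, phi5_tv, s5_sq]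
    · refine ⟨(1, uu c), ⟨one_mem _, ?_⟩, ?_⟩
      · rw [← tv01]; exact tv_mem_UT (show (0 : Fin 2) ≠ 1 by decide) (by decide) _
      · rw [Phi5_B, f5_uu]
    · exact absurd (show vec chevE6 6 35 5 < 0 by decide +kernel) (hneg 5)
  obtain ⟨⟨U, B⟩, ⟨hU, hB⟩, e⟩ := h1 hu
  exact ⟨U, hU, B, hB, e⟩

theorem exists_lo {u : ↥(chevE6.group K)} (hu : u ∈ UNJ cs6 hp6.isCartan (XX chevE6 6 K) {k | k ∈ J5}) :
    ∃ U ∈ LT 5 K, ∃ B ∈ LT 2 K, Phi5 K (U, B) = u := by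
  have h1 : UNJ cs6 hp6.isCartan (XX chevE6 6 K) {k | k ∈ J5} ≤ ((LT 5 K).prod (LT 2 K)).map (Phi5 K) := by
    refine RGD.Sup_le fun x hx => ?_
    obtain ⟨q, hq, hqx⟩ := (isRoot_iff hp6 cs6 x).1 (by have := hx.1.neg; rwa [_root_.neg_neg] at this)
    subst hqx
    intro y hy
    obtain ⟨c, rfl⟩ := (mem_XX hp6 hq y).1 hy
    have hpos : ∀ k, ¬ 0 < vec chevE6 6 q k := fun k => not_lt.2 (by
      have := hx.2.1 k
      rw [Pi.neg_apply] at this
      exact neg_nonneg.1 this)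
    have hJ : ∀ k : Fin 6, k ∉ J5 → vec chevE6 6 q k = 0 := fun k hk => by
      have := hx.2.2 k hk
      rw [Pi.neg_apply] at this
      exact neg_eq_zero.1 this
    rcases sub5 q hq hJ with ⟨a, b, hab, rfl, h1, h2⟩ | rfl | rfl
    · have hlt : b < a := by
        rcases lt_or_gt_of_ne hab with h | h
        · obtain ⟨k, hk⟩ := h1 h
          exact absurd hk (hpos k)
        · exact h
      refine ⟨(Matrix.SpecialLinearGroup.transvection hab (((s5 a b : ℤ) : K) * c), 1),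
        ⟨tv_mem_LT hab hlt _, one_mem _⟩, ?_⟩
      rw [Phi5_A, phi5_tv, s5_sq]
    · exact absurd (show 0 < vec chevE6 6 36 5 by decide +kernel) (hpos 5)
    · refine ⟨(1, vv c), ⟨one_mem _, ?_⟩, ?_⟩
      · rw [← tv10]; exact tv_mem_LT (show (1 : Fin 2) ≠ 0 by decide) (by decide) _
      · rw [Phi5_B, f5_vv]
  obtain ⟨⟨U, B⟩, ⟨hU, hB⟩, e⟩ := h1 hu
  exact ⟨U, hU, B, hB, e⟩

/-! ### Fixed points -/

theorem prod_ind {F : Type*} [Field F] (lam : Fin 5 → F) (a b : Fin 5) :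
    ∏ k, lam k ^ ind a b k = if a = b then lam a else lam a * lam b := by
  rw [Fin.prod_univ_five]
  fin_cases a <;> fin_cases b <;> simp [ind] <;> ring

theorem prod_wt {F : Type*} [Field F] {lam : Fin 5 → F} (h0 : ∀ k, lam k ≠ 0) (h1 : ∏ k, lam k = 1) {a b : Fin 5}
    {w : Fin 5 → ℤ} {c : ℤ} (hw : ∀ k, w k = ind a b k - c) :
    ∏ k, lam k ^ w k = if a = b then lam a else lam a * lam b := by
  rw [← prod_ind]
  have h2 : ∀ k, lam k ^ w k = lam k ^ ind a b k * lam k ^ (-c) := fun k => by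
    rw [hw, sub_eq_add_neg, zpow_add₀ (h0 k)]
  rw [Finset.prod_congr rfl fun k _ => h2 k, Finset.prod_mul_distrib, Finset.prod_zpow, h1, one_zpow, mul_one]

/-- **No fixed points.** -/
theorem nf_six [Finite K] {X : Matrix.SpecialLinearGroup (Fin 5) K}
    (hX : Irreducible (X : Matrix (Fin 5) (Fin 5) K).charpoly) {x : SL(2, K)} (hx : x ^ (Nat.card K ^ 2 - 1) = 1) :
    NF (VJ cs6 hp6.isCartan (XX chevE6 6 K) {k | k ∈ J5}) (Phi5 K (X, x)) ∧
      NF (VNJ cs6 hp6.isCartan (XX chevE6 6 K) {k | k ∈ J5}) (Phi5 K (X, x)) := by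
  obtain ⟨N, hN⟩ : ∃ N, N = Nat.card K ^ 2 - 1 := ⟨_, rfl⟩
  rw [← hN] at hx
  have e1 : Phi5 K (X, x) ^ N = phi5 K (X ^ N) := by
    rw [← map_pow, Prod.pow_mk, hx, Phi5_A]
  suffices h : NF (VJ cs6 hp6.isCartan (XX chevE6 6 K) {k | k ∈ J5}) (phi5 K (X ^ N)) ∧
      NF (VNJ cs6 hp6.isCartan (XX chevE6 6 K) {k | k ∈ J5}) (phi5 K (X ^ N)) by
    rw [← e1] at h
    exact ⟨NF.of_pow N h.1, NF.of_pow N h.2⟩
  obtain ⟨K', _, _, i, z, S⟩ := exists_spec hX
  obtain ⟨ch, hch⟩ := CharP.exists K'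
  have : Fact ch.Prime := ⟨(CharP.char_is_prime_or_zero K' ch).resolve_right (CharP.char_ne_zero_of_finite K' ch)⟩
  have B : Bk hp6 i {k | k ∈ J5} 3 r5 j5 (phi5 K) (phi5 K') (fun a b => ((s5 a b : ℤ) : K)) :=
    { simp := ⟨simp5.1, simp5.2⟩
      rlt := rt5.1
      rJ := r5_J
      hφ := phi5_tv K
      hφ' := fun a b hab c => by rw [phi5_tv, map_intCast]
      ss := fun a => by
        rw [rt5.2.2.2.2.1 a.castSucc a.succ, ← Int.cast_mul, rt5.2.2.2.1, Int.cast_one] }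
  obtain ⟨g, hg⟩ := Cfsg.Agent.H934.MF.diag_map i (X : Matrix (Fin 5) (Fin 5) K) S.inj S.split
  obtain ⟨lam, hlam⟩ : ∃ lam : Fin 5 → K', lam = fun a : Fin 5 => z ^ Nat.card K ^ (a : ℕ) := ⟨_, rfl⟩
  rw [← hlam] at hg
  have hg' : ((X ^ N : Matrix.SpecialLinearGroup (Fin 5) K) : Matrix (Fin 5) (Fin 5) K).map i =
      (g : Matrix (Fin 5) (Fin 5) K') * Matrix.diagonal (lam ^ N) * ((g⁻¹ : GL (Fin 5) K') : Matrix (Fin 5) (Fin 5) K') := by
    have h1 : ((X ^ N : Matrix.SpecialLinearGroup (Fin 5) K) : Matrix (Fin 5) (Fin 5) K) = X.1 ^ N :=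
      Matrix.SpecialLinearGroup.coe_pow X N
    have h2 : (X.1 ^ N).map i = (X.1.map i) ^ N := map_pow i.mapMatrix X.1 N
    rw [h1, h2, hg, conj_pow', Matrix.diagonal_pow]
  have hl0 : ∀ k, (lam ^ N) k ≠ 0 := fun k => by
    rw [Pi.pow_apply, hlam]
    exact pow_ne_zero _ (pow_ne_zero _ S.z0)
  have hl1 : ∏ k, (lam ^ N) k = 1 := by
    have h2 : ∏ k, lam k = 1 := by
      rw [hlam, Finset.prod_pow_eq_pow_sum, Fin.sum_univ_eq_sum_range (fun a => Nat.card K ^ a) 5]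
      exact S.norm
    simp only [Pi.pow_apply]
    rw [Finset.prod_pow, h2, one_pow]
  have hne : ∀ a b : Fin 5, a ≤ b → (if a = b then (lam ^ N) a else (lam ^ N) a * (lam ^ N) b) ≠ 1 := by
    intro a b hab
    split_ifs with h
    · rw [Pi.pow_apply, hlam, hN]
      exact S.one_ne _
    · rw [Pi.pow_apply, Pi.pow_apply, ← mul_pow, hlam, hN]
      exact S.two_ne (lt_of_le_of_ne hab fun h' => h (Fin.ext h')) b.2
  refine nf_block' hp6 ch B hg' fun q hq hk => ?_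
  obtain ⟨a, b, hab, h | h⟩ := out5 q hq hk
  · rw [prod_wt hl0 hl1 h]
    exact hne a b hab
  · have h1 : ∏ k, (lam ^ N) k ^ (-wt chevE6 j5 q k) = if a = b then (lam ^ N) a else (lam ^ N) a * (lam ^ N) b :=
      prod_wt (c := ind a b 4) hl0 hl1 fun k => by rw [h]; ring
    intro h2
    apply hne a b hab
    rw [← h1]
    simp only [zpow_neg]
    rw [Finset.prod_inv_distrib, h2, inv_one]

end Hom

/-! ### The row -/

/-- every product of a lower and an upper unitriangular matrix is a product of two elements with irreducible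
characteristic polynomials -/
def P5 (K : Type*) [Field K] : Prop :=
  ∀ L ∈ LT 5 K, ∀ U ∈ UT 5 K, ∃ X Y : Matrix.SpecialLinearGroup (Fin 5) K, L * U = X * Y ∧
    Irreducible (X : Matrix (Fin 5) (Fin 5) K).charpoly ∧ Irreducible (Y : Matrix (Fin 5) (Fin 5) K).charpoly

theorem pairs_of_P5 {K : Type u} [Field K] [Finite K] {k : ℕ} (hk : k ∣ Nat.card K ^ 2 - 1) (h5 : P5 K)
    (h2 : ∀ L ∈ LT 2 K, ∀ U ∈ UT 2 K, ∃ x y : SL(2, K), L * U = x * y ∧ x ^ k = 1 ∧ y ^ k = 1)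
    (g : ↥(chevE6.group K)) : ∃ a b : ↥(chevE6.group K), g = a * b ∧
      a ^ ((∑ a ∈ Finset.range 5, Nat.card K ^ a) * k) = 1 ∧ b ^ ((∑ a ∈ Finset.range 5, Nat.card K ^ a) * k) = 1 := by
  obtain ⟨N, hN⟩ : ∃ N, N = ∑ a ∈ Finset.range 5, Nat.card K ^ a := ⟨_, rfl⟩
  rw [← hN]
  have hS : IsSimpleGroup ↥(chevE6.group K) ∧ ¬ IsMulCommutative ↥(chevE6.group K) :=
    Cfsg.Agent.S1054.result chevE6 (by simp)
  obtain ⟨p, hpc⟩ := CharP.exists K
  have : Fact p.Prime := ⟨(CharP.char_is_prime_or_zero K p).resolve_right (CharP.char_ne_zero_of_finite K p)⟩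
  have := finite_W hp6 cs6
  by_cases hg : g = 1
  · exact ⟨1, 1, by rw [hg]; simp, one_pow _, one_pow _⟩
  have hord : ∀ (X : Matrix.SpecialLinearGroup (Fin 5) K) (x : SL(2, K)),
      Irreducible (X : Matrix (Fin 5) (Fin 5) K).charpoly → x ^ k = 1 → Phi5 K (X, x) ^ (N * k) = 1 := by
    intro X x hX hx
    have h3 := irr_pow hX
    rw [← hN] at h3
    rw [← map_pow, Prod.pow_mk, pow_mul, h3, one_pow, mul_comm, pow_mul, hx, one_pow]
    exact map_one _
  have hx2 : ∀ x : SL(2, K), x ^ k = 1 → x ^ (Nat.card K ^ 2 - 1) = 1 := by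
    intro x hx
    obtain ⟨d, hd⟩ := hk
    rw [hd, pow_mul, hx, one_pow]
  obtain ⟨c₁, c₂, x, y, ⟨h3, h4⟩, e⟩ := pair (rgd (K := K) hp6 cs6 p) (G1_eq_top hp6 _)
    (coord hp6) (Cfsg.Agent.Nodes.ChevChart.irr_of Cfsg.Agent.Nodes.ChevChart.irr6) (J := {k | k ∈ J5})
    (Pr := fun c₁ c₂ : ↥(chevE6.group K) => c₁ ^ (N * k) = 1 ∧ c₂ ^ (N * k) = 1)
    (fun v hv u hu => by
      obtain ⟨L, hL, L', hL', rfl⟩ := exists_lo hv
      obtain ⟨U, hU, U', hU', rfl⟩ := exists_up hu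
      obtain ⟨X, Y, hXY, hX, hY⟩ := h5 L hL U hU
      obtain ⟨x, y, hxy, hx, hy⟩ := h2 L' hL' U' hU'
      refine ⟨Phi5 K (X, x), Phi5 K (Y, y), ?_, ⟨Phi5_mem _, Phi5_mem _, (nf_six hX (hx2 x hx)).2,
        (nf_six hY (hx2 y hy)).1⟩, hord X x hX hx, hord Y y hY hy⟩
      rw [← map_mul, ← map_mul, Prod.mk_mul_mk, Prod.mk_mul_mk, hXY, hxy])
    (Cfsg.Agent.H224.Ore.Row.not_mem_core (by norm_num) hS.1 p hp6 hg)
  exact ⟨_, _, e, by rw [conj_pow, h3, mul_one, mul_inv_cancel], by rw [conj_pow, h4, mul_one, mul_inv_cancel]⟩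

/-- `1 + q + q² + q³ + q⁴` is prime to `6` -/
theorem sum5_coprime (q : ℕ) : (∑ a ∈ Finset.range 5, q ^ a).Coprime 6 := by
  have h : ∀ k : ℕ, (∑ a ∈ Finset.range 5, q ^ a) % k = (∑ a ∈ Finset.range 5, (q % k) ^ a) % k := by
    intro k
    rw [Finset.sum_nat_mod, Finset.sum_nat_mod (s := Finset.range 5) (f := fun a => (q % k) ^ a)]
    congr 1
    refine Finset.sum_congr rfl fun a _ => ?_
    exact (Nat.pow_mod q a k)
  have h2 : (∑ a ∈ Finset.range 5, q ^ a) % 2 = 1 := by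
    rw [h 2]
    have : q % 2 < 2 := Nat.mod_lt _ (by norm_num)
    interval_cases q % 2 <;> decide
  have h3 : (∑ a ∈ Finset.range 5, q ^ a) % 3 ≠ 0 := by
    rw [h 3]
    have : q % 3 < 3 := Nat.mod_lt _ (by norm_num)
    interval_cases q % 3 <;> decide
  have e : (6 : ℕ) = 2 * 3 := by norm_num
  rw [e]
  refine Nat.Coprime.mul_right ?_ ?_
  · rw [Nat.coprime_comm, Nat.Prime.coprime_iff_not_dvd Nat.prime_two]
    omega
  · rw [Nat.coprime_comm, Nat.Prime.coprime_iff_not_dvd Nat.prime_three]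
    omega

/-- **`E₆(q)`, `q ≥ 4` a power of `2` or `3`**, from the product lemma in `SL₅(q)` -/
theorem six_E6_of {K : Type u} [Field K] [Finite K] (hK : 4 ≤ Nat.card K) (h : 2 ∣ Nat.card K ∨ 3 ∣ Nat.card K)
    (h5 : P5 K) : All 6 ↥(chevE6.group K) := by
  obtain ⟨ℓ, hℓ, hℓ5, hd, h2⟩ := Cfsg.Agent.H267.Ore.PTwo.p_two hK h
  have h6 : ℓ.Coprime 6 := by
    rw [show 6 = 2 * 3 by norm_num]
    exact Nat.Coprime.mul_right ((Nat.coprime_primes hℓ Nat.prime_two).2 (by omega))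
      ((Nat.coprime_primes hℓ Nat.prime_three).2 (by omega))
  refine all_of_pairs (N := (∑ a ∈ Finset.range 5, Nat.card K ^ a) * ℓ) ((sum5_coprime _).mul_left h6)
    (pairs_of_P5 hd h5 fun L hL U hU => ?_)
  obtain ⟨x, y, h3, h4, h5⟩ := h2 L hL U hU
  exact ⟨x, y, h3, by rw [← h4, pow_orderOf_eq_one], by rw [← h5, pow_orderOf_eq_one]⟩

end Cfsg.Agent.H194.Pw
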