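import Cfsg.Agent.H85.Pw.Ef

/-!
# `L U` in `SL_{m+n}(K)` from `SL_m(K)` and `SL_n(K)` (S2465)

* `exists_block` : if every `L U` in `SL_m(K)`, `SL_n(K)` is a product of two elements with `P₁`, `P₂`, then every `L U` in
  `SL_{m+n}(K)` is a product of two elements whose characteristic polynomials are the products of those of elements with `P₁`
  and `P₂`;
* `ev_block` : the same for the eigenvalues, `E₁` for the first block, `E₂` for the second.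
-/

set_option autoImplicit false

namespace Cfsg.Agent.H194.Pw

open Matrix Polynomial
open Cfsg.Agent.H162.GaussSL (UT LT mem_UT mem_LT)
open Cfsg.Agent.H85.Pw (Ev E₁ E₂ ne_zero_of_prod)

universe u

section

variable {m n : ℕ} {K : Type*} [Field K]

/-- the characteristic polynomial of `x` is that of `x₁` times that of `x₂` -/
def ChMul (P₁ : Matrix.SpecialLinearGroup (Fin m) K → Prop) (P₂ : Matrix.SpecialLinearGroup (Fin n) K → Prop)
    (x : Matrix.SpecialLinearGroup (Fin (m + n)) K) : Prop :=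
  ∃ x₁, P₁ x₁ ∧ ∃ x₂, P₂ x₂ ∧ x.1.charpoly = x₁.1.charpoly * x₂.1.charpoly

/-- the corner blocks of a lower unitriangular matrix -/
theorem lt_blocks {L : Matrix.SpecialLinearGroup (Fin (m + n)) K} (hL : L ∈ LT (m + n) K) :
    ∃ L₁ ∈ LT m K, ∃ L₂ ∈ LT n K, ∃ C : Matrix (Fin n) (Fin m) K,
      L.1.submatrix finSumFinEquiv finSumFinEquiv = fromBlocks L₁.1 0 C L₂.1 := by
  rw [mem_LT] at hL
  obtain ⟨M, hM⟩ : ∃ M, M = L.1.submatrix (finSumFinEquiv (m := m) (n := n)) finSumFinEquiv := ⟨_, rfl⟩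
  have h12 : M.toBlocks₁₂ = 0 := by
    ext a b
    rw [hM]
    change L.1 (Fin.castAdd n a) (Fin.natAdd m b) = 0
    refine hL.1 _ _ ?_
    rw [Fin.lt_def, Fin.val_castAdd, Fin.val_natAdd]
    omega
  have h1 : M.toBlocks₁₁.BlockTriangular OrderDual.toDual := by
    intro a b hab
    rw [hM]
    change L.1 (Fin.castAdd n a) (Fin.castAdd n b) = 0
    refine hL.1 _ _ ?_
    rw [Fin.lt_def, Fin.val_castAdd, Fin.val_castAdd]
    exact hab
  have h1' : ∀ a, M.toBlocks₁₁ a a = 1 := fun a => by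
    rw [hM]
    exact hL.2 _
  have h2 : M.toBlocks₂₂.BlockTriangular OrderDual.toDual := by
    intro a b hab
    rw [hM]
    change L.1 (Fin.natAdd m a) (Fin.natAdd m b) = 0
    refine hL.1 _ _ ?_
    rw [Fin.lt_def, Fin.val_natAdd, Fin.val_natAdd]
    exact Nat.add_lt_add_left hab m
  have h2' : ∀ a, M.toBlocks₂₂ a a = 1 := fun a => by
    rw [hM]
    exact hL.2 _
  refine ⟨⟨M.toBlocks₁₁, ?_⟩, mem_LT.2 ⟨fun a b hab => h1 hab, h1'⟩, ⟨M.toBlocks₂₂, ?_⟩,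
    mem_LT.2 ⟨fun a b hab => h2 hab, h2'⟩, M.toBlocks₂₁, ?_⟩
  · rw [det_of_isLowerTriangular _ h1]
    exact Finset.prod_eq_one fun a _ => h1' a
  · rw [det_of_isLowerTriangular _ h2]
    exact Finset.prod_eq_one fun a _ => h2' a
  · change _ = fromBlocks M.toBlocks₁₁ 0 M.toBlocks₂₁ M.toBlocks₂₂
    rw [← h12, fromBlocks_toBlocks, hM]

/-- the corner blocks of an upper unitriangular matrix -/
theorem ut_blocks {U : Matrix.SpecialLinearGroup (Fin (m + n)) K} (hU : U ∈ UT (m + n) K) :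
    ∃ U₁ ∈ UT m K, ∃ U₂ ∈ UT n K, ∃ B : Matrix (Fin m) (Fin n) K,
      U.1.submatrix finSumFinEquiv finSumFinEquiv = fromBlocks U₁.1 B 0 U₂.1 := by
  rw [mem_UT] at hU
  obtain ⟨M, hM⟩ : ∃ M, M = U.1.submatrix (finSumFinEquiv (m := m) (n := n)) finSumFinEquiv := ⟨_, rfl⟩
  have h21 : M.toBlocks₂₁ = 0 := by
    ext a b
    rw [hM]
    change U.1 (Fin.natAdd m a) (Fin.castAdd n b) = 0
    refine hU.1 _ _ ?_
    rw [Fin.lt_def, Fin.val_castAdd, Fin.val_natAdd]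
    omega
  have h1 : M.toBlocks₁₁.BlockTriangular id := by
    intro a b hab
    rw [hM]
    change U.1 (Fin.castAdd n a) (Fin.castAdd n b) = 0
    refine hU.1 _ _ ?_
    rw [Fin.lt_def, Fin.val_castAdd, Fin.val_castAdd]
    exact hab
  have h1' : ∀ a, M.toBlocks₁₁ a a = 1 := fun a => by
    rw [hM]
    exact hU.2 _
  have h2 : M.toBlocks₂₂.BlockTriangular id := by
    intro a b hab
    rw [hM]
    change U.1 (Fin.natAdd m a) (Fin.natAdd m b) = 0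
    refine hU.1 _ _ ?_
    rw [Fin.lt_def, Fin.val_natAdd, Fin.val_natAdd]
    exact Nat.add_lt_add_left hab m
  have h2' : ∀ a, M.toBlocks₂₂ a a = 1 := fun a => by
    rw [hM]
    exact hU.2 _
  refine ⟨⟨M.toBlocks₁₁, ?_⟩, mem_UT.2 ⟨fun a b hab => h1 hab, h1'⟩, ⟨M.toBlocks₂₂, ?_⟩,
    mem_UT.2 ⟨fun a b hab => h2 hab, h2'⟩, M.toBlocks₁₂, ?_⟩
  · rw [det_of_isUpperTriangular h1]
    exact Finset.prod_eq_one fun a _ => h1' a
  · rw [det_of_isUpperTriangular h2]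
    exact Finset.prod_eq_one fun a _ => h2' a
  · change _ = fromBlocks M.toBlocks₁₁ M.toBlocks₁₂ 0 M.toBlocks₂₂
    rw [← h21, fromBlocks_toBlocks, hM]

/-- an element of `SL_{m+n}(K)` from a block matrix -/
theorem exists_sl {M : Matrix (Fin m ⊕ Fin n) (Fin m ⊕ Fin n) K} (h : M.det = 1) :
    ∃ x : Matrix.SpecialLinearGroup (Fin (m + n)) K, x.1.submatrix finSumFinEquiv finSumFinEquiv = M ∧
      x.1.charpoly = M.charpoly := by
  refine ⟨⟨Matrix.reindex finSumFinEquiv finSumFinEquiv M, ?_⟩, ?_, ?_⟩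
  · rw [Matrix.det_reindex_self, h]
  · change (M.submatrix _ _).submatrix _ _ = M
    rw [Matrix.submatrix_submatrix]
    simp
  · exact Matrix.charpoly_reindex _ _

/-- **`L U` from the blocks.** -/
theorem exists_block {P₁ : Matrix.SpecialLinearGroup (Fin m) K → Prop} {P₂ : Matrix.SpecialLinearGroup (Fin n) K → Prop}
    (h₁ : ∀ L ∈ LT m K, ∀ U ∈ UT m K, ∃ x y : Matrix.SpecialLinearGroup (Fin m) K, L * U = x * y ∧ P₁ x ∧ P₁ y)
    (h₂ : ∀ L ∈ LT n K, ∀ U ∈ UT n K, ∃ x y : Matrix.SpecialLinearGroup (Fin n) K, L * U = x * y ∧ P₂ x ∧ P₂ y) :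
    ∀ L ∈ LT (m + n) K, ∀ U ∈ UT (m + n) K, ∃ x y : Matrix.SpecialLinearGroup (Fin (m + n)) K, L * U = x * y ∧
      ChMul P₁ P₂ x ∧ ChMul P₁ P₂ y := by
  intro L hL U hU
  obtain ⟨L₁, hL₁, L₂, hL₂, C, eL⟩ := lt_blocks hL
  obtain ⟨U₁, hU₁, U₂, hU₂, B, eU⟩ := ut_blocks hU
  obtain ⟨x₁, y₁, e₁, hx₁, hy₁⟩ := h₁ L₁ hL₁ U₁ hU₁
  obtain ⟨x₂, y₂, e₂, hx₂, hy₂⟩ := h₂ L₂ hL₂ U₂ hU₂
  have e₁' : L₁.1 * U₁.1 = x₁.1 * y₁.1 := congrArg Subtype.val e₁
  have e₂' : L₂.1 * U₂.1 = x₂.1 * y₂.1 := congrArg Subtype.val e₂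
  have hLi : (L₁⁻¹ : Matrix.SpecialLinearGroup (Fin m) K).1 * L₁.1 = 1 := congrArg Subtype.val (inv_mul_cancel L₁)
  have hUi : U₁.1 * (U₁⁻¹ : Matrix.SpecialLinearGroup (Fin m) K).1 = 1 := congrArg Subtype.val (mul_inv_cancel U₁)
  obtain ⟨x, ex, cx⟩ := exists_sl (M := fromBlocks x₁.1 0 (C * (L₁⁻¹ : Matrix.SpecialLinearGroup (Fin m) K).1 * x₁.1) x₂.1)
    (by rw [det_fromBlocks_zero₁₂, x₁.2, x₂.2, one_mul])
  obtain ⟨y, ey, cy⟩ := exists_sl (M := fromBlocks y₁.1 (y₁.1 * ((U₁⁻¹ : Matrix.SpecialLinearGroup (Fin m) K).1 * B)) 0 y₂.1)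
    (by rw [det_fromBlocks_zero₂₁, y₁.2, y₂.2, one_mul])
  rw [charpoly_fromBlocks_zero₁₂] at cx
  rw [charpoly_fromBlocks_zero₂₁] at cy
  refine ⟨x, y, ?_, ⟨x₁, hx₁, x₂, hx₂, cx⟩, ⟨y₁, hy₁, y₂, hy₂, cy⟩⟩
  have key : (L * U).1.submatrix (finSumFinEquiv (m := m) (n := n)) finSumFinEquiv =
      (x * y).1.submatrix (finSumFinEquiv (m := m) (n := n)) finSumFinEquiv := by
    change (L.1 * U.1).submatrix _ _ = (x.1 * y.1).submatrix _ _
    rw [← Matrix.submatrix_mul_equiv L.1 U.1 _ (finSumFinEquiv (m := m) (n := n)) _,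
      ← Matrix.submatrix_mul_equiv x.1 y.1 _ (finSumFinEquiv (m := m) (n := n)) _, eL, eU, ex, ey,
      fromBlocks_multiply, fromBlocks_multiply]
    simp only [Matrix.zero_mul, Matrix.mul_zero, add_zero]
    have k1 : x₁.1 * (y₁.1 * ((U₁⁻¹ : Matrix.SpecialLinearGroup (Fin m) K).1 * B)) = L₁.1 * B := by
      rw [← Matrix.mul_assoc, ← e₁', Matrix.mul_assoc L₁.1, ← Matrix.mul_assoc U₁.1, hUi, Matrix.one_mul]
    have k2 : C * (L₁⁻¹ : Matrix.SpecialLinearGroup (Fin m) K).1 * x₁.1 * y₁.1 = C * U₁.1 := by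
      rw [Matrix.mul_assoc (C * _), ← e₁', Matrix.mul_assoc C, ← Matrix.mul_assoc _ L₁.1, hLi, Matrix.one_mul]
    have k3 : C * (L₁⁻¹ : Matrix.SpecialLinearGroup (Fin m) K).1 * x₁.1 *
        (y₁.1 * ((U₁⁻¹ : Matrix.SpecialLinearGroup (Fin m) K).1 * B)) = C * B := by
      rw [← Matrix.mul_assoc, k2, Matrix.mul_assoc C, ← Matrix.mul_assoc U₁.1, hUi, Matrix.one_mul]
    rw [k1, k2, k3, e₁', e₂']
  apply Subtype.ext
  have h3 := congrArg (fun M : Matrix (Fin m ⊕ Fin n) (Fin m ⊕ Fin n) K =>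
    M.submatrix (finSumFinEquiv (m := m) (n := n)).symm (finSumFinEquiv (m := m) (n := n)).symm) key
  simp only [Matrix.submatrix_submatrix] at h3
  simpa using h3

end

/-! ### The eigenvalues -/

section

variable {k₁ k₂ m n : ℕ} {K : Type u} [Field K] {K' : Type} [Field K'] {i : K →+* K'}

/-- the eigenvalues of the two blocks -/
def Ebl (k₁ k₂ m n : ℕ) {K' : Type} [Field K'] (lam : Fin (k₁ + k₂) → K') : Prop :=
  E₁ m n (fun a : Fin k₁ => lam (Fin.castAdd k₂ a)) ∧ E₂ m n (fun a : Fin k₂ => lam (Fin.natAdd k₁ a))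

theorem ev_block {x : Matrix.SpecialLinearGroup (Fin (k₁ + k₂)) K} (hx : ChMul (Ev i (E₁ m n)) (Ev i (E₂ m n)) x) :
    Ev i (Ebl k₁ k₂ m n) x := by
  obtain ⟨x₁, ⟨lam, h1, h2, h3⟩, x₂, ⟨mu, g1, g2, g3⟩, e⟩ := hx
  refine ⟨Fin.append lam mu, ⟨?_, ?_⟩, ?_, ?_⟩
  · simpa only [Fin.append_left] using h1
  · simpa only [Fin.append_right] using g1
  · intro a b hab
    refine Fin.addCases (fun a hab => ?_) (fun a hab => ?_) a hab <;>
      refine Fin.addCases (fun b hab => ?_) (fun b hab => ?_) b hab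
    · rw [Fin.append_left, Fin.append_left] at hab
      rw [h2 hab]
    · rw [Fin.append_left, Fin.append_right] at hab
      exact absurd (hab ▸ (g1.2.2 b).1) (h1.2.2 a)
    · rw [Fin.append_left, Fin.append_right] at hab
      exact absurd (hab ▸ (g1.2.2 a).1) (h1.2.2 b)
    · rw [Fin.append_right, Fin.append_right] at hab
      rw [g2 hab]
  · rw [e, Polynomial.map_mul, h3, g3, Fin.prod_univ_add]
    simp only [Fin.append_left, Fin.append_right]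

/-- **`L U` in `SL_{k₁+k₂}(K)`.** -/
theorem p_block
    (P₁ : ∀ L ∈ LT k₁ K, ∀ U ∈ UT k₁ K, ∃ x y : Matrix.SpecialLinearGroup (Fin k₁) K,
      L * U = x * y ∧ Ev i (E₁ m n) x ∧ Ev i (E₁ m n) y)
    (P₂ : ∀ L ∈ LT k₂ K, ∀ U ∈ UT k₂ K, ∃ x y : Matrix.SpecialLinearGroup (Fin k₂) K,
      L * U = x * y ∧ Ev i (E₂ m n) x ∧ Ev i (E₂ m n) y) :
    ∀ L ∈ LT (k₁ + k₂) K, ∀ U ∈ UT (k₁ + k₂) K, ∃ x y : Matrix.SpecialLinearGroup (Fin (k₁ + k₂)) K,
      L * U = x * y ∧ Ev i (Ebl k₁ k₂ m n) x ∧ Ev i (Ebl k₁ k₂ m n) y := by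
  intro L hL U hU
  obtain ⟨x, y, e, hx, hy⟩ := exists_block P₁ P₂ L hL U hU
  exact ⟨x, y, e, ev_block hx, ev_block hy⟩

end

end Cfsg.Agent.H194.Pw
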