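import Cfsg.Agent.H194.Pw.Six
import Cfsg.Agent.H194.Pw.Blk
import Cfsg.Agent.H85.Pw.TwoS
import Cfsg.Agent.H85.Pw.FFour
import Cfsg.Agent.H155.TG.Exc

/-!
# `E₆(q)`, `q ≥ 4`: products of two elements of order prime to `6` (S2465)

The Levi subgroup of type `A₄ A₁`; the elements `(x₅, x₂)`, `x₅` with the eigenvalues `a₁, a₂, a₃, b, b⁻¹`, `x₂` with the
eigenvalues `x, x⁻¹`, `b ^ m = x ^ m = 1`, `a_i ^ m ≠ 1`.

* `T5`, `T1`, `sub51`, `com51`, `out51` : the tables;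
* `all_E6_of` : `All n (E₆(q))` from products in `SL₃(q)`, `SL₂(q)`;
* `six_E6` : `All 6 (E₆(q))` for `q = 2 ^ a`, `3 ^ a`, `q ≥ 4`.
-/

set_option autoImplicit false
set_option linter.unusedSectionVars false

namespace Cfsg.Agent.H194.Pw

open Cfsg.Agent.Nodes.RGDChev Cfsg.Agent.Nodes.KindChev Cfsg.Agent.OddHalf.NI.ModelChev Cfsg.Agent.KFacts.RgdChevCoord
open Cfsg.Lie Cfsg.Agent.ChevalleyStructure Cfsg.Agent.ChevalleyStructure.RootVec
  Cfsg.Agent.ChevalleyStructure.CoxeterGeomTypes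
open Cfsg.Agent.TitsThree.KExcRT Cfsg.Agent.AGraded
open Cfsg.Agent.H482.Ore.Fix (wt)
open Cfsg.Agent.H162.GaussSL (UT LT)
open Cfsg.Agent.H85.Pw Cfsg.Agent.H78.Pw
open Cfsg.Agent.H150.E6T (hp6)

universe u

/-! ### The tables -/

/-- the roots of the block of the node `6` -/
def r51 : Fin 2 → Fin 2 → ℕ := ![![0, 36], ![35, 0]]

/-- the node `6` -/
def j51 : Fin 1 → Fin 6 := ![5]

theorem ch51 : (∀ a b, a ≠ b → r51 a b < chevE6.nroots) ∧ (∀ a b, a ≠ b → ∀ k, k ∉ J5 → vec chevE6 6 (r51 a b) k = 0) ∧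
    (∀ i j, i ≠ j → r51 j i = chevE6.neg (r51 i j)) ∧ ∀ a : Fin 1, r51 a.castSucc a.succ = chevE6.simple (j51 a) := by
  decide +kernel

theorem T5 : TwoS.Tb hp6 J5 3 r5 j5 s5 where
  eps := rt5.2.2.2.1
  sym := rt5.2.2.2.2.1
  up := simp5.1
  neg := rt5.2.2.2.2.2
  rlt := rt5.1
  rJ := r5_J
  hom F _ := exists_phi5 F

theorem T1 : TwoS.Tb hp6 J5 0 r51 j51 (fun _ _ => 1) where
  eps := by norm_num
  sym := by norm_num
  up := ch51.2.2.2
  neg := ch51.2.2.1
  rlt := ch51.1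
  rJ := ch51.2.1
  hom F _ := Cfsg.Agent.H155.TG.exists_phi2 (K := F) hp6 5 (r := r51) (s := fun _ _ => 1)
    (ch51.2.2.2 0) ((ch51.2.2.1 0 1 (by decide)).trans (congrArg _ (ch51.2.2.2 0))) rfl rfl

theorem sub51 : Sub2 chevE6 6 J5 3 0 r5 r51 := by decide +kernel

theorem com51 : Com2 chevE6 3 0 r5 r51 := by decide +kernel

/-- the weights of the roots outside the Levi subgroup -/
theorem out51 : ∀ q < chevE6.nroots, (∃ k : Fin 6, k ∉ J5 ∧ vec chevE6 6 q k ≠ 0) →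
    (∃ a b : Fin 5, a < b ∧ ((∀ k, wt chevE6 j5 q k = ind a b k - ind a b 4) ∨
      ∀ k, wt chevE6 j5 q k = -ind a b k + ind a b 4) ∧
      (wt chevE6 j51 q 0 - wt chevE6 j51 q 1 = 1 ∨ wt chevE6 j51 q 0 - wt chevE6 j51 q 1 = -1)) ∨
    ∃ a : Fin 5, ((∀ k, wt chevE6 j5 q k = ind a a k - ind a a 4) ∨
      ∀ k, wt chevE6 j5 q k = -ind a a k + ind a a 4) ∧ wt chevE6 j51 q 0 - wt chevE6 j51 q 1 = 0 := by
  intro q hq
  revert q
  refine @of_decide_eq_true _ ?_ ?_
  · refine @Nat.decidableBallLT _ _ fun q _ => ?_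
    refine @instDecidableForall _ _ inferInstance ?_
    refine @instDecidableOr _ _ ?_ ?_
    · refine @Fintype.decidableExistsFintype _ _ (fun a => ?_) _
      refine @Fintype.decidableExistsFintype _ _ (fun b => ?_) _
      infer_instance
    · refine @Fintype.decidableExistsFintype _ _ (fun a => ?_) _
      infer_instance
  · decide +kernel

/-! ### The values of the roots -/

section

variable {K' : Type} [Field K'] {m n : ℕ}

theorem Ebl.prod {k₁ k₂ : ℕ} {lam : Fin (k₁ + k₂) → K'} (h : Ebl k₁ k₂ m n lam) : ∏ a, lam a = 1 := by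
  rw [Fin.prod_univ_add, h.1.1, h.2.1, one_mul]

/-- the product of two of the eigenvalues of the second block -/
theorem pair_ne {lam : Fin 5 → K'} (h : Ebl 3 2 m n lam) {a b : Fin 5} (hab : a < b) :
    lam a * lam b = 1 ∨ (lam a * lam b) ^ m ≠ 1 := by
  have hp : lam 0 * lam 1 * lam 2 = 1 := by
    have := h.1.1
    rwa [Fin.prod_univ_three] at this
  have hs : lam 3 * lam 4 = 1 := by
    have := h.2.1
    rwa [Fin.prod_univ_two] at this
  have e0 : lam 0 ^ m ≠ 1 := h.1.2.2 0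
  have e1 : lam 1 ^ m ≠ 1 := h.1.2.2 1
  have e2 : lam 2 ^ m ≠ 1 := h.1.2.2 2
  have e3 : lam 3 ^ m = 1 := (h.2.2.2 0).1
  have e4 : lam 4 ^ m = 1 := (h.2.2.2 1).1
  have key : ∀ x y : K', x * y = 1 → y ^ m ≠ 1 → x ^ m ≠ 1 := by
    intro x y hxy hy hx
    apply hy
    have := congrArg (· ^ m) hxy
    simpa [mul_pow, hx] using this
  have hd : ∀ x y : K', x ^ m ≠ 1 → y ^ m = 1 → (x * y) ^ m ≠ 1 := by
    intro x y hx hy h
    rw [mul_pow, hy, mul_one] at h
    exact hx h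
  have k01 := key (lam 0 * lam 1) (lam 2) hp e2
  have k02 := key (lam 0 * lam 2) (lam 1) (by rw [← hp]; ring) e1
  have k12 := key (lam 1 * lam 2) (lam 0) (by rw [← hp]; ring) e0
  fin_cases a <;> fin_cases b <;> first
    | exact absurd hab (by decide)
    | exact .inl hs
    | exact .inr k01
    | exact .inr k02
    | exact .inr k12
    | exact .inr (hd _ _ e0 e3)
    | exact .inr (hd _ _ e0 e4)
    | exact .inr (hd _ _ e1 e3)
    | exact .inr (hd _ _ e1 e4)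
    | exact .inr (hd _ _ e2 e3)
    | exact .inr (hd _ _ e2 e4)

theorem Ebl.ne_one {k₁ k₂ : ℕ} {lam : Fin (k₁ + k₂) → K'} (h : Ebl k₁ k₂ m n lam) (a : Fin (k₁ + k₂)) : lam a ≠ 1 := by
  refine Fin.addCases (fun a => ?_) (fun a => ?_) a
  · intro h1
    apply h.1.2.2 a
    change lam (Fin.castAdd k₂ a) ^ m = 1
    rw [h1, one_pow]
  · exact (h.2.2.2 a).2

/-- the value on the block of the node `6` -/
theorem two_val {mu : Fin 2 → K'} (h : E₂ m n mu) (w : Fin 2 → ℤ) : ∏ b, mu b ^ w b = mu 0 ^ (w 0 - w 1) := by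
  have h1 : mu 0 * mu 1 = 1 := by
    have := h.1
    rwa [Fin.prod_univ_two] at this
  have h0 : mu 0 ≠ 0 := left_ne_zero_of_mul_eq_one h1
  have h2 : mu 1 = (mu 0)⁻¹ := eq_inv_of_mul_eq_one_right h1
  rw [Fin.prod_univ_two, h2, inv_zpow', ← zpow_add₀ h0, ← sub_eq_add_neg]

/-- **the values of the roots outside the Levi subgroup** -/
theorem hout51 {lam : Fin 5 → K'} (h : Ebl 3 2 m n lam) {mu : Fin 2 → K'} (h' : E₂ m n mu) {q : ℕ}
    (hq : q < chevE6.nroots) (hk : ∃ k : Fin 6, k ∉ J5 ∧ vec chevE6 6 q k ≠ 0) :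
    (∏ b, lam b ^ wt chevE6 j5 q b) * ∏ b, mu b ^ wt chevE6 j51 q b ≠ 1 := by
  have h0 : ∀ k, lam k ≠ 0 := ne_zero_of_prod h.prod
  have hmu : ∀ w : Fin 2 → ℤ, (∏ b, mu b ^ w b) ^ m = 1 := prod_pow_one fun a => (h'.2.2 a).1
  have hval : ∀ {a b : Fin 5}, ((∀ k, wt chevE6 j5 q k = ind a b k - ind a b 4) ∨
      ∀ k, wt chevE6 j5 q k = -ind a b k + ind a b 4) →
      ∏ k, lam k ^ wt chevE6 j5 q k = (if a = b then lam a else lam a * lam b) ∨
      ∏ k, lam k ^ wt chevE6 j5 q k = (if a = b then lam a else lam a * lam b)⁻¹ := by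
    intro a b hw
    rcases hw with hw | hw
    · exact .inl (prod_wt h0 h.prod hw)
    · right
      have h1 : ∏ k, lam k ^ (-wt chevE6 j5 q k) = if a = b then lam a else lam a * lam b :=
        prod_wt (c := ind a b 4) h0 h.prod fun k => by rw [hw]; ring
      rw [← h1]
      simp only [zpow_neg]
      rw [Finset.prod_inv_distrib, inv_inv]
  rcases out51 q hq hk with ⟨a, b, hab, hw, hw'⟩ | ⟨a, hw, hw'⟩
  · have hv := hval hw
    rw [if_neg hab.ne] at hv
    rcases pair_ne h hab with h1 | h1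
    · have hv' : ∏ k, lam k ^ wt chevE6 j5 q k = 1 := by
        rcases hv with hv | hv
        · rw [hv, h1]
        · rw [hv, h1, inv_one]
      rw [hv', one_mul, two_val h']
      rcases hw' with hw' | hw'
      · rw [hw', zpow_one]
        exact (h'.2.2 0).2
      · rw [hw', zpow_neg_one, ne_eq, inv_eq_one]
        exact (h'.2.2 0).2
    · intro h2
      have h3 := congrArg (· ^ m) h2
      simp only [one_pow] at h3
      rw [mul_pow, hmu, mul_one] at h3
      rcases hv with hv | hv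
      · rw [hv] at h3
        exact h1 h3
      · rw [hv, inv_pow, inv_eq_one] at h3
        exact h1 h3
  · have hv := hval hw
    rw [if_pos rfl] at hv
    rw [two_val h', hw', zpow_zero, mul_one]
    rcases hv with hv | hv
    · rw [hv]
      exact h.ne_one a
    · rw [hv, ne_eq, inv_eq_one]
      exact h.ne_one a

end

/-! ### The rows -/

/-- **`All n (E₆(q))` from products in `SL₃(q)`, `SL₂(q)`.** -/
theorem all_E6_of {K : Type u} [Field K] [Finite K] {K' : Type} [Field K'] [Finite K'] (i : K →+* K') {m n : ℕ}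
    (P₁ : ∀ L ∈ LT 3 K, ∀ U ∈ UT 3 K, ∃ x y : Matrix.SpecialLinearGroup (Fin 3) K,
      L * U = x * y ∧ Ev i (E₁ m n) x ∧ Ev i (E₁ m n) y)
    (P₂ : ∀ L ∈ LT 2 K, ∀ U ∈ UT 2 K, ∃ x y : Matrix.SpecialLinearGroup (Fin 2) K,
      L * U = x * y ∧ Ev i (E₂ m n) x ∧ Ev i (E₂ m n) y) : All n ↥(chevE6.group K) := by
  classical
  have := Fintype.ofFinite K'
  obtain ⟨φ₁, hφ₁⟩ := exists_phi5 K
  obtain ⟨φ₂, hφ₂⟩ := Cfsg.Agent.H155.TG.exists_phi2 (K := K) hp6 5 (r := r51) (s := fun _ _ => 1)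
    (ch51.2.2.2 0) ((ch51.2.2.1 0 1 (by decide)).trans (congrArg _ (ch51.2.2.2 0))) rfl rfl
  refine all_of_pairs (NN_coprime (K' := K') n) (TwoS.pairs_of_two hp6 T5 T1 sub51 com51 hφ₁ hφ₂ i
    (E₁ := Ebl 3 2 m n) (E₂ := E₂ m n) (by norm_num)
    (Cfsg.Agent.S1054.result chevE6 (by simp)) Cfsg.Agent.Nodes.ChevChart.irr6
    (fun lam h₁ mu h₂ q hq hk => hout51 h₁ h₂ hq hk) (fun lam h a => ?_)
    (fun mu h a => pow_NN h.1 (h.2.1 a)) (p_block P₁ P₂) P₂)
  refine pow_NN h.prod ?_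
  refine Fin.addCases (m := 3) (n := 2) (fun a => ?_) (fun a => ?_) a
  · exact h.1.2.1 a
  · exact h.2.2.1 a

/-- **Products in `SL₃(q)`, `SL₂(q)` of elements of order prime to `6`**, `q ≥ 4` a power of `2` or `3` -/
theorem exists_prods {K : Type u} [Field K] [Finite K] (hq : 4 ≤ Nat.card K) (h : 2 ∣ Nat.card K ∨ 3 ∣ Nat.card K) :
    ∃ (K' : Type) (_ : Field K') (_ : Finite K') (i : K →+* K') (m : ℕ),
      (∀ L ∈ LT 3 K, ∀ U ∈ UT 3 K, ∃ x y : Matrix.SpecialLinearGroup (Fin 3) K,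
        L * U = x * y ∧ Ev i (E₁ m 6) x ∧ Ev i (E₁ m 6) y) ∧
      ∀ L ∈ LT 2 K, ∀ U ∈ UT 2 K, ∃ x y : Matrix.SpecialLinearGroup (Fin 2) K,
        L * U = x * y ∧ Ev i (E₂ m 6) x ∧ Ev i (E₂ m 6) y := by
  obtain ⟨p, hpc⟩ := CharP.exists K
  have hpp : Fact p.Prime := ⟨(CharP.char_is_prime_or_zero K p).resolve_right (CharP.char_ne_zero_of_finite K p)⟩
  have := Fintype.ofFinite K
  obtain ⟨e, -, he⟩ := FiniteField.card K p
  rw [← Nat.card_eq_fintype_card] at he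
  have hK' : Nat.card (FiniteField.Extension K p 6) = Nat.card K ^ 6 := FiniteField.natCard_extension K p 6
  have h6 : ∀ {r : ℕ}, r.Prime → 5 ≤ r → r.Coprime 6 := by
    intro r hr h7
    rw [show 6 = 2 * 3 by norm_num]
    exact Nat.Coprime.mul_right ((Nat.coprime_primes hr Nat.prime_two).2 (by omega))
      ((Nat.coprime_primes hr Nat.prime_three).2 (by omega))
  by_cases h1 : Nat.card K % 3 = 1
  · have h2 : 2 ∣ Nat.card K := by
      rcases h with h | h
      · exact h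
      · omega
    have hp2 : p = 2 := by
      rw [he] at h2
      exact ((Nat.prime_dvd_prime_iff_eq Nat.prime_two hpp.1).1 (Nat.prime_two.dvd_of_dvd_pow h2)).symm
    subst hp2
    by_cases h4 : Nat.card K = 4
    · -- `q = 4`
      have hm : Nat.card K ^ 2 - 1 = 15 := by rw [h4]; norm_num
      refine ⟨_, inferInstance, inferInstance, algebraMap K (FiniteField.Extension K 2 6), Nat.card K ^ 2 - 1,
        fun L hL U hU => ?_, p_two_ev hK' (by norm_num) (ℓ := 5) Nat.prime_five le_rfl (by rw [hm]; norm_num)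
          (by rw [hm]; norm_num) (by norm_num)⟩
      obtain ⟨X, Y, h5, h6, h7, h8, h9⟩ := PThree.p_three_four h4 L U hL hU
      have key : ∀ Z : Matrix.SpecialLinearGroup (Fin 3) K, Z ^ 7 = 1 → (orderOf Z).Coprime 6 := fun Z hZ =>
        Nat.Coprime.of_dvd_left (orderOf_dvd_of_pow_eq_one hZ) (by norm_num)
      exact ⟨X, Y, h5, ev_irr hK' (by norm_num) (by norm_num) h6 (key X h8),
        ev_irr hK' (by norm_num) (by norm_num) h7 (key Y h9)⟩
    · -- `q = 4 ^ k`, `q ≥ 16`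
      have h5 : 4 < 2 ^ (e : ℕ) := by omega
      obtain ⟨ℓ, hℓ, hℓ5, hℓd⟩ := FFour.exists_five_sub (e := e) (by omega) h5
      obtain ⟨ℓ', hℓ', hℓ5', hℓd'⟩ := FFour.exists_five (N := Nat.card K + 1) (by omega) (by omega) (by omega)
      have : Fact ℓ.Prime := ⟨hℓ⟩
      obtain ⟨g, hg⟩ := exists_prime_orderOf_dvd_card' (G := Kˣ) ℓ (by rw [Nat.card_units, he]; exact hℓd)
      have hg' : orderOf (g : K) = ℓ := by rw [orderOf_units, hg]
      refine ⟨_, inferInstance, inferInstance, algebraMap K (FiniteField.Extension K 2 6), Nat.card K + 1,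
        p_nu hK' (by norm_num) g.ne_zero ?_ (FFour.coprime_six (by omega) (by omega)) (by rw [hg']; exact h6 hℓ hℓ5),
        p_two_ev hK' (by norm_num) hℓ' hℓ5' ?_ hℓd' (h6 hℓ' hℓ5')⟩
      · intro h7
        have h8 := orderOf_dvd_of_pow_eq_one h7
        rw [hg'] at h8
        have := Nat.le_of_dvd (by norm_num) h8
        omega
      · have h7 : Nat.card K ^ 2 - 1 = (Nat.card K + 1) * (Nat.card K - 1) := by
          have h8 := Nat.sq_sub_sq (Nat.card K) 1
          rwa [one_pow] at h8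
        rw [h7]
        exact hℓd'.mul_right _
  · -- `q` is not `1` mod `3`
    obtain ⟨ℓ, hℓ, hℓ5, hℓd⟩ := Cfsg.Agent.H267.Ore.PTwo.exists_prime hq h
    exact ⟨_, inferInstance, inferInstance, algebraMap K (FiniteField.Extension K p 6), Nat.card K ^ 2 - 1,
      p_irr hK' (by norm_num) hq (FFour.six_aux h1), p_two_ev hK' (by norm_num) hℓ hℓ5 hℓd hℓd (h6 hℓ hℓ5)⟩

/-- **`E₆(q)`, `q ≥ 4`, `q` a power of `2` or `3`** -/
theorem six_E6 {K : Type u} [Field K] [Finite K] (hK : 4 ≤ Nat.card K) (h : 2 ∣ Nat.card K ∨ 3 ∣ Nat.card K) :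
    All 6 ↥(chevE6.group K) := by
  obtain ⟨K', _, _, i, m, h1, h2⟩ := exists_prods hK h
  exact all_E6_of i h1 h2

end Cfsg.Agent.H194.Pw
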